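import Mathlib
import Cfsg.Agent.H580.LieBadFam
import Cfsg.Agent.H584.NC.Basic
import Cfsg.Agent.KFacts.RgdLieCharP
import Cfsg.Agent.S0255

/-!
# Groups of Lie type of characteristic two satisfying `Loc` (S4386)

After `H580.LieBad`, `H580.LieBadFam` (the same case division for another condition).
* `Par G` : a subgroup above a Sylow 2-subgroup `Q` with `O_2 ≠ 1` which is invariant under all automorphisms fixing `Q` is
  nilpotent; `par_of_loc` : this follows from `Loc G` for the groups of Lie type of characteristic 2;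
* `charTwo` : a simple group of Lie type of characteristic two satisfying `Loc` is `PSL₃(2) ≅ PSL₂(7)`.
-/

set_option autoImplicit false
open scoped Pointwise

namespace Cfsg.Agent.H257.LocTwo

open Cfsg.Agent.H580 Cfsg.Agent.H580.Reduce Cfsg.Agent.H580.Two Cfsg.Agent.H580.MaxInv Cfsg.Agent.H580.BN
  Cfsg.Agent.H580.LieBad Cfsg.Agent.FixBN Cfsg.Agent.Schreier.BNSch

open Cfsg.Agent.H584.NC (NC Loc LocAt QOK IsL2)

universe u v

variable {G : Type u} [Group G]

/-- the condition on the subgroups above a Sylow 2-subgroup -/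
def Par (G : Type u) [Group G] : Prop :=
  ∀ (Q : Sylow 2 G) (M V : Subgroup G), (Q : Subgroup G) ≤ M → Stable (Q : Subgroup G) M → V ≠ ⊥ → IsPGroup 2 V →
    M ≤ Subgroup.normalizer (V : Set G) → Group.IsNilpotent M

/-- the core of `Q` in `M` -/
def coreIn (M Q : Subgroup G) : Subgroup G where
  carrier := {x | ∀ g ∈ M, g * x * g⁻¹ ∈ Q}
  one_mem' := fun g _ => by simp
  mul_mem' := fun {a b} ha hb g hg => by
    have h1 : g * (a * b) * g⁻¹ = (g * a * g⁻¹) * (g * b * g⁻¹) := by group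
    rw [h1]
    exact Q.mul_mem (ha g hg) (hb g hg)
  inv_mem' := fun {a} ha g hg => by
    have h1 : g * a⁻¹ * g⁻¹ = (g * a * g⁻¹)⁻¹ := by group
    rw [h1]
    exact Q.inv_mem (ha g hg)

theorem mem_coreIn {M Q : Subgroup G} {x : G} : x ∈ coreIn M Q ↔ ∀ g ∈ M, g * x * g⁻¹ ∈ Q := Iff.rfl

theorem coreIn_le {M Q : Subgroup G} : coreIn M Q ≤ Q := fun x hx => by
  have h1 := hx 1 M.one_mem
  rwa [one_mul, inv_one, mul_one] at h1

theorem le_normalizer_coreIn [Finite G] {M Q : Subgroup G} : M ≤ Subgroup.normalizer (coreIn M Q : Set G) := by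
  intro m hm
  rw [Subgroup.mem_normalizer_iff]
  intro x
  constructor
  · intro hx g hg
    have h1 : g * (m * x * m⁻¹) * g⁻¹ = (g * m) * x * (g * m)⁻¹ := by group
    rw [h1]
    exact hx _ (M.mul_mem hg hm)
  · intro hx g hg
    have h1 : g * x * g⁻¹ = (g * m⁻¹) * (m * x * m⁻¹) * (g * m⁻¹)⁻¹ := by group
    rw [h1]
    exact hx _ (M.mul_mem hg (M.inv_mem hm))

theorem map_coreIn [Finite G] {M Q : Subgroup G} {τ : MulAut G} (hM : M.map τ.toMonoidHom = M)
    (hQ : Q.map τ.toMonoidHom = Q) : (coreIn M Q).map τ.toMonoidHom = coreIn M Q := by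
  refine Subgroup.eq_of_le_of_card_ge ?_ (Subgroup.card_map_of_injective τ.injective).ge
  rintro _ ⟨x, hx, rfl⟩ g hg
  have hg' : g ∈ M.map τ.toMonoidHom := hM.symm ▸ hg
  obtain ⟨m, hm, rfl⟩ := hg'
  have h1 : τ.toMonoidHom m * τ.toMonoidHom x * (τ.toMonoidHom m)⁻¹ = τ.toMonoidHom (m * x * m⁻¹) := by
    rw [map_mul, map_mul, map_inv]
  rw [h1, ← hQ]
  exact Subgroup.mem_map_of_mem _ (hx m hm)

theorem le_coreIn [Finite G] {M V : Subgroup G} {Q : Sylow 2 G} (hQM : (Q : Subgroup G) ≤ M) (hV : IsPGroup 2 V)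
    (hM : M ≤ Subgroup.normalizer (V : Set G)) : V ≤ coreIn M Q := by
  have hVQ : V ≤ Q := by
    have h1 : IsPGroup 2 ((Q : Subgroup G) ⊔ V : Subgroup G) :=
      Q.2.to_sup_of_normal_right' hV (hQM.trans hM)
    have h2 := Q.3 h1 le_sup_left
    exact le_sup_right.trans h2.le
  intro v hv g hg
  exact hVQ ((Subgroup.mem_normalizer_iff.1 (hM hg) v).1 hv)

/-- **The condition follows from `Loc`.** -/
theorem par_of_loc [Finite G] [IsSimpleGroup G] (h : Loc G) (hF : KFacts.RgdFilt.HasFilt 2 G) : Par G := by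
  have hp : Fact (Nat.Prime 2) := ⟨Nat.prime_two⟩
  intro Q M V hQM hst hV1 hV hMV
  obtain ⟨Q₀, T, hT⟩ := h.loc
  obtain ⟨g, hg⟩ := MulAction.exists_smul_eq G Q Q₀
  have hg' : (Q : Subgroup G).map (MulAut.conj g).toMonoidHom = Q₀ := by
    rw [← hg, Sylow.coe_subgroup_smul]
    rfl
  set c := MulAut.conj g with hc
  set M₀ := M.map c.toMonoidHom with hM₀
  have hQM₀ : (Q₀ : Subgroup G) ≤ M₀ := by
    rw [← hg']
    exact Subgroup.map_mono hQM
  have hV₀ : IsPGroup 2 (V.map c.toMonoidHom) := hV.map _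
  have hMV₀ : M₀ ≤ Subgroup.normalizer ((V.map c.toMonoidHom : Subgroup G) : Set G) := by
    rw [← Subgroup.map_equiv_normalizer_eq]
    exact Subgroup.map_mono hMV
  have hV₀1 : V.map c.toMonoidHom ≠ ⊥ := by
    rw [Ne, Subgroup.map_eq_bot_iff_of_injective _ c.injective]
    exact hV1
  set Y := coreIn M₀ Q₀ with hY
  have hVY := le_coreIn hQM₀ hV₀ hMV₀
  have hY1 : Y ≠ ⊥ := fun h1 => hV₀1 (le_bot_iff.1 (h1 ▸ hVY))
  have hYp : IsPGroup 2 Y := Q₀.2.to_le coreIn_le
  have hinv : ∀ τ ∈ T, Y.map τ.toMonoidHom = Y := by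
    intro τ hτ
    refine map_coreIn ?_ (hT.inv τ hτ)
    -- `c⁻¹ τ c` fixes `Q`
    have h1 := hst (c.trans (τ.trans c.symm)) (by
      have e1 : (Q : Subgroup G).map (c.trans (τ.trans c.symm)).toMonoidHom =
          (((Q : Subgroup G).map c.toMonoidHom).map τ.toMonoidHom).map c.symm.toMonoidHom := by
        rw [Subgroup.map_map, Subgroup.map_map]
        rfl
      rw [e1, hg', hT.inv τ hτ, ← hg', Subgroup.map_map]
      convert Subgroup.map_id _ using 1
      congr 1
      ext x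
      exact c.symm_apply_apply x)
    have e1 : M.map (c.trans (τ.trans c.symm)).toMonoidHom =
        ((M.map c.toMonoidHom).map τ.toMonoidHom).map c.symm.toMonoidHom := by
      rw [Subgroup.map_map, Subgroup.map_map]
      rfl
    rw [e1] at h1
    have h2 := congrArg (Subgroup.map c.toMonoidHom) h1
    rw [Subgroup.map_map] at h2
    have e2 : c.toMonoidHom.comp c.symm.toMonoidHom = MonoidHom.id G := by
      ext x
      exact c.apply_symm_apply x
    rw [e2, Subgroup.map_id] at h2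
    exact h2
  have hnc := hT.npc Y coreIn_le hY1 hinv
  obtain ⟨N, hN, hcop, hq⟩ := H584.NC.NC_iff.1 hnc
  have hna : ∃ a b : G, a * b ≠ b * a := by
    by_contra hcon
    push Not at hcon
    exact h.not_comm ⟨⟨hcon⟩⟩
  have hbot := hF.local_core hna hYp hY1 (E := N.map (Subgroup.normalizer (Y : Set G)).subtype) (Subgroup.map_subtype_le N)
    (by
      rintro y hy _ ⟨e, he, rfl⟩
      exact ⟨⟨y, hy⟩ * e * ⟨y, hy⟩⁻¹, hN.conj_mem e he ⟨y, hy⟩, rfl⟩)
    (by rwa [Subgroup.card_map_of_injective (Subgroup.subtype_injective _)])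
  rw [Subgroup.map_eq_bot_iff_of_injective _ (Subgroup.subtype_injective _)] at hbot
  subst hbot
  have h2 : IsPGroup 2 (Subgroup.normalizer (Y : Set G)) := hq.of_equiv QuotientGroup.quotientBot
  have h3 : IsPGroup 2 M₀ := h2.to_le le_normalizer_coreIn
  have h4 : IsPGroup 2 M := h3.of_equiv (M.equivMapOfInjective _ c.injective).symm
  exact h4.isNilpotent

section Split

variable {P : Cfsg.BNPair G} {p : ℕ} {U : Subgroup G}

/-- If the torus centralizes `U` then it is trivial. -/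
theorem torus_trivial' [Finite G] (h : Split P p U)
    (hc : ∀ x ∈ P.B, x ∈ P.N → ∀ u ∈ U, x * u = u * x) : ∀ x ∈ P.B, x ∈ P.N → x = 1 := by
  -- the torus is normal
  have hnorm : (P.B ⊓ P.N).Normal := by
    rw [← Subgroup.normalizer_eq_top_iff, eq_top_iff, ← P.sup_eq_top]
    refine sup_le ?_ ?_
    · intro b hb
      obtain ⟨u, hu, t, ht, rfl⟩ := h.cover' hb
      apply mem_normalizer_of_conj_mem
      intro x hx
      have h1 : t * x * t⁻¹ ∈ P.B ⊓ P.N := Subgroup.mul_mem _ (Subgroup.mul_mem _ ht hx) (Subgroup.inv_mem _ ht)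
      have h2 := hc _ h1.1 h1.2 u hu
      have h3 : u * t * x * (u * t)⁻¹ = t * x * t⁻¹ := by
        calc u * t * x * (u * t)⁻¹ = u * (t * x * t⁻¹) * u⁻¹ := by group
          _ = (t * x * t⁻¹) * u * u⁻¹ := by rw [h2]
          _ = t * x * t⁻¹ := by group
      rw [h3]
      exact h1
    · intro n hn
      apply mem_normalizer_of_conj_mem
      intro x hx
      exact ⟨P.conj_mem n hn x hx, P.N.mul_mem (P.N.mul_mem hn hx.2) (P.N.inv_mem hn)⟩
  intro x hx hxN
  have h1 : x ∈ P.B.normalCore := by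
    intro g
    exact (hnorm.conj_mem x ⟨hx, hxN⟩ g).1
  rw [h.core] at h1
  exact Subgroup.mem_bot.mp h1

/-- the torus is trivial if `B` has a normal 2-complement -/
theorem torus_trivial [Finite G] [hp : Fact (Nat.Prime 2)] (h : Split P 2 U) (hn : NC P.B) :
    ∀ x ∈ P.B, x ∈ P.N → x = 1 := by
  obtain ⟨m, hm, hH⟩ := h.tor
  refine torus_trivial' h fun x hx hxN u hu => ?_
  refine hn.comm' h.le h.isP hx ?_ (fun y hy => h.norm x hx y hy) hu
  intro h2
  exact hm (h2.trans (orderOf_dvd_of_pow_eq_one (hH x hx hxN)))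

theorem nc_B [Finite G] [hp : Fact (Nat.Prime 2)] (hL : Loc G) (h : Split P 2 U) : NC P.B := by
  obtain ⟨Q, hQ⟩ := exists_sylow_of_split h
  have h1 := hL.normalizer_sylow Q
  change NC (Subgroup.normalizer ((Q : Subgroup G) : Set G)) at h1
  rw [hQ, h.normalizer_eq] at h1
  exact h1

theorem B_eq [Finite G] [hp : Fact (Nat.Prime 2)] (hL : Loc G) (h : Split P 2 U) : P.B = U := by
  apply le_antisymm _ h.le
  intro b hb
  obtain ⟨u, hu, t, ht, rfl⟩ := h.cover' hb
  rw [torus_trivial h (nc_B hL h) t ht.1 ht.2, mul_one]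
  exact hu

/-- **Rank one, characteristic two.** -/
theorem card_lt_of_one [Finite G] [hp : Fact (Nat.Prime 2)] (h : Split P 2 U) (hL : Loc G) {s : G}
    (hS : P.S = {s}) : Nat.card G < 3 * Nat.card U ^ 2 := by
  have hB := B_eq hL h
  have h1 := P.B.card_mul_index
  rw [RankOne.index_B h hS, hB] at h1
  have h2 : 0 < Nat.card U := Nat.card_pos
  rw [← h1]
  nlinarith

open Cfsg.Agent.LieRecognition.FeitHigmanGroup (q R R_mk_iff Red alt exists_max_red alt_mem_N alt_succ two_le_q)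
open Cfsg.Agent.LieExceptional.BNPairCore (mem_C)

/-- **Rank two, characteristic two.** -/
theorem card_lt_of_two [Finite G] [hp : Fact (Nat.Prime 2)] (h : Split P 2 U) (hL : Loc G) (hbad : Par G) {s t : G}
    (hS : P.S = {s, t}) (hst : s ≠ t) {V : Subgroup G} (hV1 : V ≠ ⊥) (hVp : IsPGroup 2 V)
    (hV : P.parabolic {s} ≤ Subgroup.normalizer (V : Set G)) : Nat.card G < 3 * Nat.card U ^ 2 := by
  have hs : s ∈ P.S := by rw [hS]; simp
  have ht : t ∈ P.S := by rw [hS]; simp
  have hB := B_eq hL h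
  -- the two nodes are exchanged by some automorphism
  have hq : q P s = q P t := by
    obtain ⟨Q, hQ⟩ := exists_sylow_of_split h
    by_contra hne
    refine not_nilp_of_le P hs le_rfl (hbad Q (P.parabolic {s}) V (hQ ▸ h.le.trans (B_le_parabolic P _)) ?_ hV1 hVp hV)
    intro α hα
    rw [hQ] at hα
    have hBα := map_B h α hα
    obtain ⟨x, hx, hxs⟩ := exists_map_eq P α hBα hs
    rw [hS] at hx
    rcases hx with rfl | hx
    · exact hxs
    · exfalso
      rw [Set.mem_singleton_iff] at hx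
      subst hx
      apply hne
      have h1 : (P.B.map α.toMonoidHom).relIndex ((P.parabolic {s}).map α.toMonoidHom) =
          P.B.relIndex (P.parabolic {s}) := Subgroup.relIndex_map_map_of_injective _ _ α.injective
      rw [hBα, hxs, RankTwo.relIndex_parabolic ht, RankTwo.relIndex_parabolic hs] at h1
      omega
  obtain ⟨n, hn2, hred, hbraid, hne⟩ := exists_max_red hS hst
  have hredle : ∀ k, k ≤ n → Red P s t k := fun k hk => hred.of_le hs ht hk
  have hidx := RankTwo.index_B hS (by omega) hred hbraid hne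
  set x := q P s with hx
  have hxpow : ∀ k, k ≤ n → q P (alt k s t) = x ^ k ∧ q P (alt k t s) = x ^ k := by
    intro k
    induction k with
    | zero =>
      intro _
      rw [pow_zero]
      exact ⟨RankTwo.q_one, RankTwo.q_one⟩
    | succ k ih =>
      intro hk
      obtain ⟨h1, h2⟩ := ih (by omega)
      constructor
      · rw [alt_succ, RankTwo.q_mul hs (alt_mem_N ht hs k) (by
          rw [← alt_succ, (hredle (k + 1) hk).1, (hredle k (by omega)).2]
          exact Nat.le_succ k), h2, pow_succ, mul_comm]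
      · rw [alt_succ, RankTwo.q_mul ht (alt_mem_N hs ht k) (by
          rw [← alt_succ, (hredle (k + 1) hk).2, (hredle k (by omega)).1]
          exact Nat.le_succ k), h1, pow_succ, mul_comm, ← hq]
  have hx2 : 2 ≤ x := two_le_q (P := P) hs
  have hle : x ^ n ≤ Nat.card U := by
    rw [← (hxpow n le_rfl).1]
    exact Nat.le_of_dvd Nat.card_pos (q_dvd h (alt_mem_N hs ht n))
  have hsum : P.B.index = (1 + x) * ∑ k ∈ Finset.range n, x ^ k := by
    rw [hidx, add_mul, one_mul, Finset.mul_sum]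
    congr 1
    · exact Finset.sum_congr rfl fun k hk => (hxpow k (Finset.mem_range.mp hk).le).1
    · exact Finset.sum_congr rfl fun k hk => by
        rw [(hxpow (k + 1) (Finset.mem_range.mp hk)).2, pow_succ, mul_comm]
  obtain ⟨y, hy⟩ : ∃ y, x = y + 1 := ⟨x - 1, by omega⟩
  have hgeo := geom_sum_mul_add y n
  rw [← hy] at hgeo
  set SS := ∑ k ∈ Finset.range n, x ^ k with hSS
  have h1 : P.B.index < 3 * Nat.card U := by
    rw [hsum]
    have h2 : (1 + x) * SS ≤ 3 * (SS * y) := by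
      have : 1 + x ≤ 3 * y := by omega
      calc (1 + x) * SS ≤ (3 * y) * SS := Nat.mul_le_mul_right _ this
        _ = 3 * (SS * y) := by ring
    omega
  have h2 := P.B.card_mul_index
  rw [hB] at h2 h1
  rw [← h2]
  have h3 : 0 < Nat.card U := Nat.card_pos
  nlinarith

end Split

/-! ### rank at least three -/

section RGD
open CoxeterSystem Cfsg.Agent.ChevalleyStructure.CoxeterGeom Cfsg.Agent.Tits.Roots
  Cfsg.Agent.Nodes.Reps Cfsg.Agent.Nodes.BNOf Cfsg.Agent.Nodes.StabComb Cfsg.Agent.Nodes.Bruhat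
  Cfsg.Agent.Nodes.LeviDec Cfsg.Agent.KFacts.RgdCharP
open Cfsg.Agent.LieRecognition.CoxClass

variable {I : Type*} [Fintype I] [DecidableEq I] {M : CoxeterMatrix I} {W : Type*} [Group W]
  {cs : CoxeterSystem M W} {C : I → I → ℤ} {h : IsCartan M C} {p : ℕ} {T : Subgroup G} {n : I → G}
  {X : (I → ℤ) → Subgroup G}

theorem VJ_ne_bot [Finite W] (R : RGD cs h p T n X) {J : Set I} {k : I} (hk : k ∉ J) : VJ cs h X J ≠ ⊥ := by
  intro h1
  have h2 : X (sr k) ≤ VJ cs h X J := RGD.le_Sup (sr_mem_NotJ hk)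
  rw [h1, le_bot_iff] at h2
  exact X_ne_bot R (isRoot_sr cs h k) h2

theorem parabolic_le_normalizer [Finite W] (R : RGD cs h p T n X) (hgen : RGD.B cs h T X ⊔ NN cs R.nsys = ⊤)
    (J : Set I) : (R.bnPair hgen).parabolic (n '' J) ≤ Subgroup.normalizer (VJ cs h X J : Set G) := by
  refine le_trans ?_ (PJ_le_normalizer_VJ R J)
  refine sup_le B_le_PJ ?_
  rw [Subgroup.closure_le]
  rintro _ ⟨i, hi, rfl⟩
  exact LJ_le_PJ (n_mem_LJ R hi)

/-- **Rank at least three.** -/
theorem rank_ge_three [Finite G] [IsSimpleGroup G] [Finite W] (hbad : Par G) [hp : Fact (Nat.Prime 2)]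
    (R : RGD cs h 2 T n X)
    (hgen : RGD.B cs h T X ⊔ NN cs R.nsys = ⊤)
    (hconn : Cfsg.Agent.KFacts.RgdCharP.Conn M) (h3 : 3 ≤ Fintype.card I) : False := by
  classical
  obtain ⟨i₀⟩ : Nonempty I := Fintype.card_pos_iff.mp (by omega)
  have hne : (R.bnPair hgen).S.Nonempty := ⟨n i₀, i₀, rfl⟩
  have hsplit := SplitRGD.split_of_rgd hp.out R hgen (Cfsg.Agent.Tits.OfBN.normalCore_eq_bot (R.bnPair hgen) hne)
  have h5 : ∀ a b : I, M a b ≠ 5 := by
    intro a b hab
    by_cases hne : a = b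
    · rw [hne, M.diagonal] at hab; omega
    · rcases h.rel a b hne with h1 | h1 | h1 | h1 <;> omega
  have hconn' : ∀ J : Set I, J.Nonempty → Jᶜ.Nonempty → ∃ a ∈ J, ∃ b ∈ Jᶜ, M a b ≠ 2 := by
    intro J hJ hJc
    exact hconn J hJ (fun h => by rw [h, Set.compl_univ] at hJc; exact Set.not_nonempty_empty hJc)
  obtain ⟨x₁, hx₁⟩ := exists_leaf cs h5 hconn' h3
  obtain ⟨x₂, hx₂⟩ := exists_nonleaf hconn' h3
  set P := R.bnPair hgen with hP
  have hs : Set.range n = P.S := rfl
  have hsS : ∀ i, n i ∈ P.S := fun i => ⟨i, rfl⟩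
  -- parabolic subgroups invariant under the symmetries of the diagram
  set U := RGD.Sup X (RGD.Pos cs h) with hU
  obtain ⟨Q, hQ⟩ := exists_sylow_of_split hsplit
  have hstab : ∀ L : I → Prop, (∀ σ : Equiv.Perm I, (∀ i j, H580.Graph.Adj M (σ i) (σ j) ↔ H580.Graph.Adj M i j) →
      ∀ i, L i → L (σ i)) → Stable (Q : Subgroup G) (P.parabolic (n '' {i | L i})) := by
    intro L hL α hα
    rw [hQ] at hα
    have hBα := map_B hsplit α hα
    obtain ⟨σ, hσ1, hσ2⟩ := Cfsg.Agent.Schreier.BNGraph.exists_perm P n hs R.n_injective (H580.Graph.Adj M)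
      (fun i hi => hi.1 rfl) (fun i j hij => H580.Lie.adj_iff R hij) α hBα
    have key : P.parabolic (n '' {i | L i}) = P.B ⊔ ⨆ i : {i | L i}, P.parabolic {n i} := by
      apply le_antisymm
      · refine sup_le le_sup_left ?_
        rw [Subgroup.closure_le]
        rintro _ ⟨i, hi, rfl⟩
        exact Subgroup.mem_sup_right (Subgroup.mem_iSup_of_mem (⟨i, hi⟩ : {i | L i}) (mem_parabolic_self P _))
      · refine sup_le le_sup_left (iSup_le fun i => parabolic_mono P (Set.singleton_subset_iff.mpr ⟨i, i.2, rfl⟩))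
    refine Subgroup.eq_of_le_of_card_ge ?_ (Subgroup.card_map_of_injective α.injective).ge
    conv_lhs => rw [key]
    rw [Subgroup.map_sup, Subgroup.map_iSup]
    refine sup_le ?_ (iSup_le fun i => ?_)
    · rw [hBα]
      exact B_le_parabolic P _
    · have h1 := hσ1 i
      have h2 : (P.parabolic {n (i : I)}).map α.toMonoidHom = P.parabolic {n (σ i)} := h1
      rw [h2]
      exact parabolic_mono P (Set.singleton_subset_iff.mpr ⟨σ i, hL σ hσ2 i i.2, rfl⟩)
  have hBQ : ∀ J, (Q : Subgroup G) ≤ P.parabolic J := fun J => by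
    rw [hQ]
    exact hsplit.le.trans (B_le_parabolic P J)
  set L₁ : I → Prop := fun x => ∀ y z, H580.Graph.Adj M x y → H580.Graph.Adj M x z → y = z with hL₁
  have hL₁σ : ∀ σ : Equiv.Perm I, (∀ i j, H580.Graph.Adj M (σ i) (σ j) ↔ H580.Graph.Adj M i j) → ∀ i, L₁ i ↔ L₁ (σ i) := by
    intro σ hσ i
    constructor
    · intro hi y z hy hz
      obtain ⟨y, rfl⟩ := σ.surjective y
      obtain ⟨z, rfl⟩ := σ.surjective z
      rw [hi y z ((hσ i y).mp hy) ((hσ i z).mp hz)]
    · intro hi y z hy hz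
      exact σ.injective (hi (σ y) (σ z) ((hσ i y).mpr hy) ((hσ i z).mpr hz))
  have st1 := hstab L₁ (fun σ hσ i hi => (hL₁σ σ hσ i).mp hi)
  -- the leaves
  have h2 : P.parabolic {n x₁} ≤ P.parabolic (n '' {i | L₁ i}) :=
    parabolic_mono P (Set.singleton_subset_iff.mpr ⟨x₁, hx₁, rfl⟩)
  exact not_nilp_of_le P (hsS x₁) h2 (hbad Q _ _ (hBQ _) st1 (VJ_ne_bot R (J := {i | L₁ i}) hx₂) (isPGroup_VJ R _)
    (parabolic_le_normalizer R hgen _))
end RGD

end Cfsg.Agent.H257.LocTwo
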