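import Mathlib
import Cfsg.Agent.H257.NC.Two

/-!
# Groups of Lie type of characteristic two satisfying `Loc` (S4386)

`charTwo` : a simple group of Lie type of characteristic two satisfying `Loc` is `PSL₃(2) ≅ PSL₂(7)`.
-/

set_option autoImplicit false
open scoped Pointwise

namespace Cfsg.Agent.H257.LocTwo

open Cfsg CoxeterSystem Cfsg.Agent.ChevalleyStructure.CoxeterGeom Cfsg.Agent.Tits.Roots Cfsg.Agent.Nodes.Reps Cfsg.Agent.Nodes.BNOf
  Cfsg.Agent.Omega.ML.Ex.Typ Cfsg.Agent.FixBN Cfsg.Agent.H580.BN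
open Cfsg.Agent.H580.LieBadFam (card_sylow_two Small small_contra isSimple_center exists_pow odd_pow_sub
  pow_sub_one_mul_le ge_four not_dvd_add_one not_dvd_sub_one two_part)
open Cfsg.Agent.H584.NC (NC Loc LocAt QOK IsL2)

universe u

variable {G : Type u} [Group G]

theorem gen_top {l : ℕ} {M : CoxeterMatrix (Fin l)} {C : Fin l → Fin l → ℤ} {h : IsCartan M C} {p : ℕ} {T : Subgroup G}
    {n : Fin l → G} {X : (Fin l → ℤ) → Subgroup G} (R : RGD M.toCoxeterSystem h p T n X)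
    (hX : RGD.Sup X {x | IsRoot M.toCoxeterSystem h x} = ⊤) :
    RGD.B M.toCoxeterSystem h T X ⊔ NN M.toCoxeterSystem R.nsys = ⊤ := by
  rw [eq_top_iff, ← hX]
  exact Nodes.RGDLib.rgd_G1_le R

/-- rank one -/
theorem rgd_one [Finite G] [IsSimpleGroup G] (hL : Loc G) {l : ℕ} {M : CoxeterMatrix (Fin l)} (hl : l = 1)
    (hG : HasRGDT 2 M G) : Small (Nat.card G) := by
  have := Fact.mk Nat.prime_two
  subst hl
  obtain ⟨C, h, T, n, X, hW, R, hX⟩ := hG
  have hgen := gen_top R hX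
  have hne : (R.bnPair hgen).S.Nonempty := ⟨n 0, 0, rfl⟩
  have hsplit := SplitRGD.split_of_rgd Nat.prime_two R hgen
    (Cfsg.Agent.Tits.OfBN.normalCore_eq_bot (R.bnPair hgen) hne)
  have hS : (R.bnPair hgen).S = {n 0} := by
    change Set.range n = _
    ext x
    constructor
    · rintro ⟨k, rfl⟩
      rw [Subsingleton.elim k 0]
      rfl
    · rintro h
      exact ⟨0, h.symm⟩
  have h1 := card_lt_of_one hsplit hL hS
  rwa [card_sylow_two hsplit] at h1

/-- rank at least two -/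
theorem rgd_two [Finite G] [IsSimpleGroup G] (hL : Loc G) (hpar : Par G) {l : ℕ} {M : CoxeterMatrix (Fin l)}
    (hl : 2 ≤ l) (hG : HasRGDT 2 M G) : l = 2 ∧ Small (Nat.card G) := by
  have := Fact.mk Nat.prime_two
  obtain ⟨C, h, T, n, X, hW, R, hX⟩ := hG
  have hgen := gen_top R hX
  have hconn := KFacts.RgdLieCharP.conn_of_simple R hX (isSimple_center hL.nonsol)
  rcases Nat.lt_or_ge 2 l with h3 | h3
  · exact (rank_ge_three hpar R hgen hconn (by rw [Fintype.card_fin]; exact h3)).elim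
  · obtain rfl : l = 2 := by omega
    have hne : (R.bnPair hgen).S.Nonempty := ⟨n 0, 0, rfl⟩
    have hsplit := SplitRGD.split_of_rgd Nat.prime_two R hgen
      (Cfsg.Agent.Tits.OfBN.normalCore_eq_bot (R.bnPair hgen) hne)
    have hS : (R.bnPair hgen).S = {n 0, n 1} := by
      change Set.range n = _
      ext x
      constructor
      · rintro ⟨k, rfl⟩
        fin_cases k
        · exact Or.inl rfl
        · exact Or.inr rfl
      · rintro (h | h)
        · exact ⟨0, h.symm⟩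
        · exact ⟨1, h.symm⟩
    have hst : n 0 ≠ n 1 := fun h => absurd (R.n_injective h) (by decide)
    refine ⟨rfl, ?_⟩
    have h0 := parabolic_le_normalizer R hgen {0}
    rw [Set.image_singleton] at h0
    have h1 := card_lt_of_two hsplit hL hpar hS hst (VJ_ne_bot R (J := {0}) (k := 1) (by
      intro h
      exact absurd (Set.mem_singleton_iff.mp h) (by decide))) (KFacts.RgdCharP.isPGroup_VJ R _) h0
    rwa [card_sylow_two hsplit] at h1

theorem false_psl_two' [Finite G] [IsSimpleGroup G] (hL : Loc G)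
    {F : Type} [Field F] [Fintype F] [CharP F 2] (hF : 4 ≤ Fintype.card F)
    (e : G ≃* Matrix.ProjectiveSpecialLinearGroup (Fin 2) F) : False := by
  obtain ⟨hp, f, hf0, hf⟩ := exists_pow (F := F) 2
  have := Fact.mk hp
  have hcard := S0243.result (F := F) rfl 2 le_rfl
  rw [← Nat.card_congr e.toEquiv, Fin.prod_univ_two] at hcard
  simp only [Fin.val_zero, Fin.val_one, pow_zero, pow_one] at hcard
  obtain ⟨a, ha⟩ : ∃ a, Fintype.card F = a + 1 := ⟨Fintype.card F - 1, by omega⟩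
  have e1 : Fintype.card F ^ 2 - 1 = a * (a + 2) := by
    rw [ha, show (a + 1) ^ 2 = a * (a + 2) + 1 by ring, Nat.add_sub_cancel]
  have e2 : Fintype.card F ^ 2 - Fintype.card F = Fintype.card F * a := by
    rw [ha, show (a + 1) ^ 2 = (a + 1) * a + (a + 1) by ring, Nat.add_sub_cancel]
  have e3 : Fintype.card F - 1 = a := by omega
  have hs := rgd_one hL rfl ((typ_PSL 1).of_equiv e.symm)
  have hqe : Even (Fintype.card F) := by
    rw [hf]; exact even_two.pow_of_ne_zero hf0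
  have hao : Odd a := by
    rw [ha] at hqe
    rwa [Nat.even_add_one, Nat.not_even_iff_odd] at hqe
  have hg : Nat.gcd 2 (Fintype.card F - 1) = 1 := by
    rw [e3]
    exact Nat.coprime_two_left.mpr hao
  rw [hg, one_mul, e1, e2, e3] at hcard
  have h1 := small_contra (d := a) (m := a * (a * (a + 2))) (a := 1) (q := Fintype.card F) hs hf hao
    (hao.mul (hao.mul (by
      rcases hao with ⟨k, rfl⟩
      exact ⟨k + 1, by ring⟩))) (by rw [hcard]; ring)
  rw [pow_one, ha] at h1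
  have h2 : a * (a + 2) < 3 * (a + 1) := Nat.lt_of_mul_lt_mul_left h1
  nlinarith

theorem psl [Finite G] [IsSimpleGroup G] (hL : Loc G) (hpar : Par G)
    {F : Type} [Field F] [Fintype F] [CharP F 2] {n : ℕ} (hn : 2 ≤ n) (hF : n = 2 → 4 ≤ Fintype.card F)
    (e : G ≃* Matrix.ProjectiveSpecialLinearGroup (Fin n) F) : n = 3 ∧ Fintype.card F = 2 := by
  obtain ⟨hp, f, hf0, hf⟩ := exists_pow (F := F) 2
  have := Fact.mk hp
  rcases hn.eq_or_lt with rfl | h3
  · exact (false_psl_two' hL (hF rfl) e).elim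
  obtain ⟨n, rfl⟩ : ∃ k, n = k + 1 := ⟨n - 1, by omega⟩
  obtain ⟨hn2, hs⟩ := rgd_two hL hpar (l := n) (by omega) ((typ_PSL n).of_equiv e.symm)
  subst hn2
  have hcard := S0243.result (F := F) rfl 3 (by norm_num)
  rw [← Nat.card_congr e.toEquiv, Fin.prod_univ_three] at hcard
  simp only [Fin.val_zero, Fin.val_one, Fin.val_two, pow_zero, pow_one] at hcard
  have hq2 : 2 ≤ Fintype.card F := Fintype.one_lt_card
  have hqe : Even (Fintype.card F) := by
    rw [hf]; exact even_two.pow_of_ne_zero hf0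
  obtain ⟨a, ha⟩ : ∃ a, Fintype.card F = a + 1 := ⟨Fintype.card F - 1, by omega⟩
  have hao : Odd a := by
    rw [ha] at hqe
    rwa [Nat.even_add_one, Nat.not_even_iff_odd] at hqe
  have e1 : Fintype.card F ^ 3 - 1 = a * (a ^ 2 + 3 * a + 3) := by
    rw [ha, show (a + 1) ^ 3 = a * (a ^ 2 + 3 * a + 3) + 1 by ring, Nat.add_sub_cancel]
  have e2 : Fintype.card F ^ 3 - Fintype.card F = Fintype.card F * (a * (a + 2)) := by
    rw [ha, show (a + 1) ^ 3 = (a + 1) * (a * (a + 2)) + (a + 1) by ring, Nat.add_sub_cancel]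
  have e4 : Fintype.card F ^ 3 - Fintype.card F ^ 2 = Fintype.card F ^ 2 * a := by
    rw [ha, show (a + 1) ^ 3 = (a + 1) ^ 2 * a + (a + 1) ^ 2 by ring, Nat.add_sub_cancel]
  have e3 : Fintype.card F - 1 = a := by omega
  rw [e1, e2, e3, e4] at hcard
  have hd3 : Nat.gcd 3 a ≤ 3 := Nat.gcd_le_left _ (by norm_num)
  have hdo : Odd (Nat.gcd 3 a) := Odd.of_dvd_nat hao (Nat.gcd_dvd_right _ _)
  have ho1 : Odd (a ^ 2 + 3 * a + 3) := by
    rcases hao with ⟨k, rfl⟩
    exact ⟨2 * k ^ 2 + 5 * k + 3, by ring⟩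
  have ho2 : Odd (a + 2) := by
    rcases hao with ⟨k, rfl⟩
    exact ⟨k + 1, by ring⟩
  have h1 := small_contra (d := Nat.gcd 3 a * a) (m := a * (a * (a ^ 2 + 3 * a + 3) * (a * (a + 2)))) (a := 3)
    (q := Fintype.card F) hs hf (hdo.mul hao) (hao.mul ((hao.mul ho1).mul (hao.mul ho2)))
    (by rw [mul_assoc, hcard]; ring)
  by_cases ha1 : a = 1
  · subst ha1
    exact ⟨rfl, ha⟩
  · have ha3 : 3 ≤ a := by
      rcases hao with ⟨k, rfl⟩
      omega
    have h2 : (a * (a ^ 2 + 3 * a + 3) * (a * (a + 2))) < Nat.gcd 3 a * (3 * Fintype.card F ^ 3) := by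
      apply Nat.lt_of_mul_lt_mul_left (a := a)
      calc a * (a * (a ^ 2 + 3 * a + 3) * (a * (a + 2))) < Nat.gcd 3 a * a * (3 * Fintype.card F ^ 3) := h1
        _ = a * (Nat.gcd 3 a * (3 * Fintype.card F ^ 3)) := by ring
    have h3 : Nat.gcd 3 a * (3 * Fintype.card F ^ 3) ≤ 9 * (a + 1) ^ 3 := by
      rw [ha]
      calc Nat.gcd 3 a * (3 * (a + 1) ^ 3) ≤ 3 * (3 * (a + 1) ^ 3) := Nat.mul_le_mul_right _ hd3
        _ = 9 * (a + 1) ^ 3 := by ring
    have h4 := h2.trans_le h3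
    obtain ⟨c, rfl⟩ : ∃ c, a = c + 3 := ⟨a - 3, by omega⟩
    have h5 : (c + 3) * ((c + 3) ^ 2 + 3 * (c + 3) + 3) * ((c + 3) * ((c + 3) + 2)) =
        9 * ((c + 3) + 1) ^ 3 + (c ^ 5 + 20 * c ^ 4 + 150 * c ^ 3 + 519 * c ^ 2 + 792 * c + 369) := by ring
    rw [h5] at h4
    exact absurd h4 (not_lt_of_ge (Nat.le_add_right _ _))

theorem false_psp [Finite G] [IsSimpleGroup G] (hL : Loc G) (hpar : Par G)
    {F : Type} [Field F] [Fintype F] [CharP F 2] {m : ℕ} (hm : 2 ≤ m) (hF : m = 2 → 3 ≤ Fintype.card F)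
    (e : G ≃* PSp m F) : False := by
  obtain ⟨hp, f, hf0, hf⟩ := exists_pow (F := F) 2
  have := Fact.mk hp
  obtain ⟨rfl, hs⟩ := rgd_two hL hpar hm ((typ_PSp (by omega)).of_equiv e.symm)
  have hq2 : 2 ≤ Fintype.card F := Fintype.one_lt_card
  have hqe : Even (Fintype.card F) := by
    rw [hf]; exact even_two.pow_of_ne_zero hf0
  have h1 := S0245.result (F := F) rfl 2
  have h2 := S0246.result (F := F) rfl 2 (by omega)
  have h3 := Subgroup.card_eq_card_quotient_mul_card_subgroup (Subgroup.center (Matrix.symplecticGroup (Fin 2) F))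
  have hg : Nat.gcd 2 (Fintype.card F - 1) = 1 := by
    have h4 : Odd (Fintype.card F ^ 1 - 1) := odd_pow_sub hqe (by omega) one_ne_zero
    rw [pow_one] at h4
    exact Nat.coprime_two_left.mpr h4
  rw [h2, hg, mul_one] at h3
  have h4 : Nat.card G = Fintype.card F ^ 4 * ((Fintype.card F ^ 2 - 1) * (Fintype.card F ^ 4 - 1)) := by
    rw [Nat.card_congr e.toEquiv]
    change Nat.card (Matrix.symplecticGroup (Fin 2) F ⧸ Subgroup.center (Matrix.symplecticGroup (Fin 2) F)) = _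
    rw [← h3, h1]
    simp [Finset.prod_range_succ]
  have h5 := small_contra (d := 1) (m := (Fintype.card F ^ 2 - 1) * (Fintype.card F ^ 4 - 1)) (a := 4)
    (q := Fintype.card F) hs hf odd_one ((odd_pow_sub hqe (by omega) (by omega)).mul
      (odd_pow_sub hqe (by omega) (by omega))) (by rw [one_mul, h4])
  have hq4 : 4 ≤ Fintype.card F := ge_four (F := F) hf (by have := hF rfl; omega) (by omega)
  generalize Fintype.card F = q at *
  have i1 := pow_sub_one_mul_le hq4 (le_refl 2)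
  have i2 := pow_sub_one_mul_le hq4 (show 2 ≤ 4 by norm_num)
  have i3 := Nat.mul_le_mul i1 i2
  have i4 : 16 * q ^ 4 ≤ q ^ 2 * q ^ 4 := Nat.mul_le_mul_right _ (by nlinarith)
  nlinarith

theorem false_psu [Finite G] [IsSimpleGroup G] (hL : Loc G) (hpar : Par G)
    {F : Type} [Field F] [Fintype F] [CharP F 2] {n q : ℕ} (hF : Fintype.card F = q ^ 2) (hn : 3 ≤ n)
    (hn2 : ¬ (n = 3 ∧ q = 2)) (e : G ≃* PSU n F q) : False := by
  obtain ⟨hp, f, hf0, hf⟩ := exists_pow (F := F) 2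
  have := Fact.mk hp
  obtain ⟨f', hf', hqp⟩ : ∃ f', f' ≠ 0 ∧ q = 2 ^ f' := by
    have h1 : q ∣ 2 ^ f := by rw [← hf, hF]; exact dvd_pow_self q (by norm_num)
    obtain ⟨f', -, hf'⟩ := (Nat.dvd_prime_pow hp).mp h1
    refine ⟨f', ?_, hf'⟩
    rintro rfl
    rw [hf', pow_zero, one_pow] at hF
    have := Fintype.one_lt_card (α := F)
    omega
  have hq2 : 2 ≤ q := by
    rw [hqp]
    exact hp.two_le.trans (Nat.le_self_pow hf' 2)
  have hpq : 2 ∣ q := hqp ▸ dvd_pow_self 2 hf'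
  have hcard := S0280.result hF n (by omega)
  rw [← Nat.card_congr e.toEquiv] at hcard
  obtain ⟨m, hm, hG⟩ := typ_PSU (p := 2) hF hn
  have hp1 : ¬ 2 ∣ q + 1 := by
    have := not_dvd_add_one hp hpq one_ne_zero
    rwa [pow_one] at this
  rcases Nat.lt_or_ge m 2 with hm2 | hm2
  · -- rank one
    obtain rfl : n = 3 := by omega
    obtain rfl : m = 1 := by omega
    have hd : Nat.gcd 3 (q + 1) ≤ 3 := Nat.gcd_le_left _ (by norm_num)
    have hcard3 : Nat.gcd 3 (q + 1) * (q + 1) * Nat.card G = q ^ 3 * ((q + 1) * ((q ^ 2 - 1) * (q ^ 3 + 1))) := by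
      rw [mul_assoc, hcard]
      simp [Finset.prod_range_succ, show ¬ Even 1 by decide, show Even 2 by decide, mul_assoc]
    have hs := rgd_one hL rfl (hG.of_equiv e.symm)
    have hqe : Even q := by
      rw [hqp]; exact even_two.pow_of_ne_zero hf'
    have hq1 : Odd (q + 1) := hqe.add_one
    have hdo : Odd (Nat.gcd 3 (q + 1)) := Odd.of_dvd_nat (by decide : Odd 3) (Nat.gcd_dvd_left _ _)
    have hq4 : 4 ≤ q := ge_four (F := F) hqp (fun h => hn2 ⟨rfl, h⟩) (by omega)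
    have h1 := small_contra hs hqp (hdo.mul hq1) (hq1.mul ((odd_pow_sub hqe (by omega) (by omega)).mul
      (hqe.pow_of_ne_zero (show 3 ≠ 0 by norm_num)).add_one)) hcard3
    have h2 : (q ^ 2 - 1) * (q ^ 3 + 1) < Nat.gcd 3 (q + 1) * (3 * q ^ 3) := by
      apply Nat.lt_of_mul_lt_mul_left (a := q + 1)
      calc (q + 1) * ((q ^ 2 - 1) * (q ^ 3 + 1)) < Nat.gcd 3 (q + 1) * (q + 1) * (3 * q ^ 3) := h1
        _ = (q + 1) * (Nat.gcd 3 (q + 1) * (3 * q ^ 3)) := by ring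
    have h3 : Nat.gcd 3 (q + 1) * (3 * q ^ 3) ≤ 3 * (3 * q ^ 3) := Nat.mul_le_mul_right _ hd
    have h4 : 15 ≤ q ^ 2 - 1 := by
      have : 4 ^ 2 ≤ q ^ 2 := Nat.pow_le_pow_left hq4 2
      omega
    have h5 : 15 * (q ^ 3 + 1) ≤ (q ^ 2 - 1) * (q ^ 3 + 1) := Nat.mul_le_mul_right _ h4
    omega
  · obtain ⟨rfl, hs⟩ := rgd_two hL hpar hm2 (hG.of_equiv e.symm)
    have hqe : Even q := by
      rw [hqp]; exact even_two.pow_of_ne_zero hf'
    have hq1 : Odd (q + 1) := hqe.add_one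
    have hdo : Odd (Nat.gcd n (q + 1)) := Odd.of_dvd_nat hq1 (Nat.gcd_dvd_right _ _)
    have o2 : Odd (q ^ 2 - 1) := odd_pow_sub hqe (by omega) (by omega)
    have o4 : Odd (q ^ 4 - 1) := odd_pow_sub hqe (by omega) (by omega)
    have o3 : Odd (q ^ 3 + 1) := (hqe.pow_of_ne_zero (show 3 ≠ 0 by norm_num)).add_one
    have o5 : Odd (q ^ 5 + 1) := (hqe.pow_of_ne_zero (show 5 ≠ 0 by norm_num)).add_one
    rcases hm with rfl | rfl
    · have hcard4 : Nat.gcd 4 (q + 1) * (q + 1) * Nat.card G =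
          q ^ 6 * ((q + 1) * ((q ^ 2 - 1) * (q ^ 3 + 1) * (q ^ 4 - 1))) := by
        rw [mul_assoc, hcard]
        simp [Finset.prod_range_succ, show ¬ Even 1 by decide, show Even 2 by decide, show ¬ Even 3 by decide, mul_assoc]
      have hg : Nat.gcd 4 (q + 1) = 1 := by
        change Nat.Coprime 4 (q + 1)
        exact Nat.Coprime.pow_left 2 (Nat.coprime_two_left.mpr hq1)
      have h1 := small_contra hs hqp (hdo.mul hq1) (hq1.mul ((o2.mul o3).mul o4)) hcard4
      change (q + 1) * ((q ^ 2 - 1) * (q ^ 3 + 1) * (q ^ 4 - 1)) < Nat.gcd 4 (q + 1) * (q + 1) * (3 * q ^ 6) at h1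
      rw [hg, one_mul] at h1
      have h2 := Nat.lt_of_mul_lt_mul_left h1
      by_cases hq : q = 2
      · subst hq; norm_num at h2
      · have hq4 : 4 ≤ q := ge_four (F := F) hqp hq (by omega)
        have i1 := pow_sub_one_mul_le hq4 (le_refl 2)
        have i2 := pow_sub_one_mul_le hq4 (show 2 ≤ 4 by norm_num)
        have i3 := Nat.mul_le_mul i1 i2
        have i4 : 64 ≤ q ^ 3 + 1 := by
          have : 4 ^ 3 ≤ q ^ 3 := Nat.pow_le_pow_left hq4 3
          omega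
        have i5 := Nat.mul_le_mul i4 i3
        have i6 : 0 < q ^ 6 := by positivity
        have i7 : q ^ 6 = q ^ 2 * q ^ 4 := by ring
        nlinarith
    · have hcard5 : Nat.gcd 5 (q + 1) * (q + 1) * Nat.card G =
          q ^ 10 * ((q + 1) * ((q ^ 2 - 1) * (q ^ 3 + 1) * (q ^ 4 - 1) * (q ^ 5 + 1))) := by
        rw [mul_assoc, hcard]
        simp [Finset.prod_range_succ, show ¬ Even 1 by decide, show Even 2 by decide, show ¬ Even 3 by decide,
          show Even 4 by decide, mul_assoc]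
      have hd : Nat.gcd 5 (q + 1) ≤ 5 := Nat.gcd_le_left _ (by norm_num)
      have h1 := small_contra hs hqp (hdo.mul hq1) (hq1.mul (((o2.mul o3).mul o4).mul o5)) hcard5
      change (q + 1) * ((q ^ 2 - 1) * (q ^ 3 + 1) * (q ^ 4 - 1) * (q ^ 5 + 1)) <
        Nat.gcd 5 (q + 1) * (q + 1) * (3 * q ^ 10) at h1
      have h2 : (q ^ 2 - 1) * (q ^ 3 + 1) * (q ^ 4 - 1) * (q ^ 5 + 1) < Nat.gcd 5 (q + 1) * (3 * q ^ 10) := by
        apply Nat.lt_of_mul_lt_mul_left (a := q + 1)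
        calc (q + 1) * ((q ^ 2 - 1) * (q ^ 3 + 1) * (q ^ 4 - 1) * (q ^ 5 + 1)) <
            Nat.gcd 5 (q + 1) * (q + 1) * (3 * q ^ 10) := h1
          _ = (q + 1) * (Nat.gcd 5 (q + 1) * (3 * q ^ 10)) := by ring
      by_cases hq : q = 2
      · subst hq; norm_num at h2
      · have hq4 : 4 ≤ q := ge_four (F := F) hqp hq (by omega)
        have h3 : Nat.gcd 5 (q + 1) * (3 * q ^ 10) ≤ 5 * (3 * q ^ 10) := Nat.mul_le_mul_right _ hd
        have i1 := pow_sub_one_mul_le hq4 (le_refl 2)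
        have i2 := pow_sub_one_mul_le hq4 (show 2 ≤ 4 by norm_num)
        have i3 := Nat.mul_le_mul i1 i2
        have i4 : q ^ 3 * q ^ 5 ≤ (q ^ 3 + 1) * (q ^ 5 + 1) := Nat.mul_le_mul (Nat.le_succ _) (Nat.le_succ _)
        have i5 := Nat.mul_le_mul i4 i3
        have i6 : 256 * q ^ 10 ≤ q ^ 14 := by
          calc 256 * q ^ 10 = 4 ^ 4 * q ^ 10 := by norm_num
            _ ≤ q ^ 4 * q ^ 10 := Nat.mul_le_mul_right _ (Nat.pow_le_pow_left hq4 4)
            _ = q ^ 14 := by ring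
        have i7 : q ^ 3 * q ^ 5 * (15 * q ^ 2 * (15 * q ^ 4)) = 225 * q ^ 14 := by ring
        have i8 : 0 < q ^ 10 := by positivity
        rw [i7] at i5
        nlinarith

theorem false_g2 [Finite G] [IsSimpleGroup G] (hL : Loc G) (hpar : Par G)
    {F : Type} [Field F] [Fintype F] [CharP F 2] (hF : 3 ≤ Fintype.card F)
    (e : G ≃* Lie.chevG2.group F) : False := by
  obtain ⟨hp, f, hf0, hf⟩ := exists_pow (F := F) 2
  have := Fact.mk hp
  obtain ⟨-, hs⟩ := rgd_two hL hpar (M := CoxeterMatrix.G₂) le_rfl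
    ((typ_group (by simp [Nodes.RGDChev.IsType, Nodes.RGDChev.typeList]) F 2).of_equiv e.symm)
  have hqe : Even (Fintype.card F) := by
    rw [hf]; exact even_two.pow_of_ne_zero hf0
  have h4 := S1059.result (F := F) rfl
  rw [← Nat.card_congr e.toEquiv] at h4
  have h5 := small_contra (d := 1) (m := (Fintype.card F ^ 2 - 1) * (Fintype.card F ^ 6 - 1)) (a := 6)
    (q := Fintype.card F) hs hf odd_one ((odd_pow_sub hqe (by omega) (by omega)).mul
      (odd_pow_sub hqe (by omega) (by omega))) (by rw [one_mul, h4, mul_assoc])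
  have hq4 : 4 ≤ Fintype.card F := ge_four (F := F) hf (by omega) (by omega)
  generalize Fintype.card F = q at *
  have i1 := pow_sub_one_mul_le hq4 (le_refl 2)
  have i2 := pow_sub_one_mul_le hq4 (show 2 ≤ 6 by norm_num)
  have i3 := Nat.mul_le_mul i1 i2
  have i4 : 16 * q ^ 6 ≤ q ^ 2 * q ^ 6 := Nat.mul_le_mul_right _ (by nlinarith)
  nlinarith

theorem false_tD4 [Finite G] [IsSimpleGroup G] (hL : Loc G) (hpar : Par G)
    {F : Type} [Field F] [Fintype F] [CharP F 2] {q : ℕ} (hq : IsPrimePow q) (hF : Fintype.card F = q ^ 3)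
    (e : G ≃* Lie.twistedD4 F q) : False := by
  obtain ⟨hp, f, hf0, hf⟩ := exists_pow (F := F) 2
  have := Fact.mk hp
  obtain ⟨f', hf', hqp⟩ : ∃ f', f' ≠ 0 ∧ q = 2 ^ f' := by
    have h1 : q ∣ 2 ^ f := by rw [← hf, hF]; exact dvd_pow_self q (by norm_num)
    obtain ⟨f', -, hf'⟩ := (Nat.dvd_prime_pow hp).mp h1
    refine ⟨f', ?_, hf'⟩
    rintro rfl
    rw [hf', pow_zero, one_pow] at hF
    have := Fintype.one_lt_card (α := F)
    omega
  obtain ⟨-, hs⟩ := rgd_two hL hpar (M := CoxeterMatrix.G₂) le_rfl ((typ_twD4 hq hF 2).of_equiv e.symm)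
  have hqe : Even q := by
    rw [hqp]; exact even_two.pow_of_ne_zero hf'
  have hq0 : q ≠ 0 := hq.pos.ne'
  have hq2 : 2 ≤ q := hq.two_le
  have h4 := S1067.result hq hF
  rw [← Nat.card_congr e.toEquiv] at h4
  have o8 : Odd (q ^ 8 + q ^ 4 + 1) :=
    ((hqe.pow_of_ne_zero (show 8 ≠ 0 by norm_num)).add (hqe.pow_of_ne_zero (show 4 ≠ 0 by norm_num))).add_one
  have h5 := small_contra (d := 1) (m := (q ^ 2 - 1) * (q ^ 6 - 1) * (q ^ 8 + q ^ 4 + 1)) (a := 12)
    hs hqp odd_one (((odd_pow_sub hqe hq0 (by omega)).mul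
      (odd_pow_sub hqe hq0 (by omega))).mul o8) (by rw [one_mul, h4]; ring)
  by_cases hq2 : q = 2
  · subst hq2; norm_num at h5
  · have hq4 : 4 ≤ q := ge_four (F := F) hqp hq2 (by omega)
    have i1 := pow_sub_one_mul_le hq4 (le_refl 2)
    have i2 := pow_sub_one_mul_le hq4 (show 2 ≤ 6 by norm_num)
    have i3 := Nat.mul_le_mul i1 i2
    have i4 : q ^ 8 ≤ q ^ 8 + q ^ 4 + 1 := by omega
    have i5 := Nat.mul_le_mul i3 i4
    have i6 : 256 * q ^ 12 ≤ q ^ 16 := by
      calc 256 * q ^ 12 = 4 ^ 4 * q ^ 12 := by norm_num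
        _ ≤ q ^ 4 * q ^ 12 := Nat.mul_le_mul_right _ (Nat.pow_le_pow_left hq4 4)
        _ = q ^ 16 := by ring
    have i7 : 15 * q ^ 2 * (15 * q ^ 6) * q ^ 8 = 225 * q ^ 16 := by ring
    have i8 : 0 < q ^ 12 := by positivity
    rw [i7] at i5
    nlinarith

theorem false_2F4 [Finite G] [IsSimpleGroup G] (hL : Loc G) (hG : Lie.Iso2F4 G) : False := by
  obtain ⟨K, _, _, m, hm, hK, ⟨e⟩⟩ := hG
  obtain ⟨Q, UE, s, t, hQ, -⟩ := Cfsg.Agent.ParSys.Fam.TwoFFour.exists_all hm hK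
  have : Fact (Nat.Prime 2) := ⟨Nat.prime_two⟩
  have h := FixBN.Transport.split e.symm Q hQ.split
  have hs : s ∈ Q.S := by rw [hQ.S]; exact Or.inl rfl
  have hs' : e.symm s ∈ (Transport.mapBN e.symm Q).S := ⟨s, hs, rfl⟩
  have h1 := nc_B hL h
  have h2 : NC Q.B :=
    (H584.NC.NC.congr (Q.B.equivMapOfInjective e.symm.toMonoidHom e.symm.injective)).2 h1
  have : Finite ↥(Lie.twistedF4 K (2 ^ m)) := Finite.of_equiv G e.toEquiv
  have h3 := torus_trivial hQ.split h2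
  obtain ⟨x, hx, hxu⟩ := hQ.fpfs
  have hx1 := h3 x hx.1 hx.2
  subst hx1
  obtain ⟨V, hV⟩ := hQ.split.node s hs
  obtain ⟨u, hu, huV⟩ := hV.ne
  apply huV
  apply hV.stab u hu
  apply hxu u hu
  simp

theorem false_sz [Finite G] [IsSimpleGroup G] (hL : Loc G) (h : Lie.IsoSuzuki G) : False := by
  obtain ⟨K, i1, i2, m, hm, hK, ⟨e⟩⟩ := h
  have H := LieRecognition.SzMatrix.good hK
  have hs : IsSimpleGroup ↥(Cfsg.Lie.Sz K (2 ^ (m + 1))) := Cfsg.Agent.S1162.result hm hK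
  have h1 := Omega.ML.LieRow.SzSplit.split hm hK H hs
  have hsplit := Transport.split e.symm _ h1
  have : Fact (Nat.Prime 2) := ⟨Nat.prime_two⟩
  have hcardU : Nat.card H.unip = (2 ^ (2 * m + 1)) ^ 2 := by
    rw [H.card_unip, Nat.card_eq_fintype_card, hK]
  have h2 := card_lt_of_one hsplit hL (s := e.symm H.w) (by
    change e.symm '' {H.w} = _
    rw [Set.image_singleton])
  rw [Subgroup.card_map_of_injective e.symm.injective, hcardU, Nat.card_congr e.toEquiv,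
    (Cfsg.Agent.S1163.result hm hK).1] at h2
  have h8 : 8 ≤ 2 ^ (2 * m + 1) :=
    calc 8 = 2 ^ 3 := rfl
      _ ≤ 2 ^ (2 * m + 1) := Nat.pow_le_pow_right (by norm_num) (by omega)
  generalize 2 ^ (2 * m + 1) = q at h2 h8
  have h3 : 7 ≤ q - 1 := by omega
  have h4 : q ^ 2 * 7 * (q ^ 2 + 1) ≤ q ^ 2 * (q - 1) * (q ^ 2 + 1) :=
    Nat.mul_le_mul_right _ (Nat.mul_le_mul_left _ h3)
  have h5 : 0 < q ^ 2 := by positivity
  nlinarith

/-- **The simple groups of Lie type of characteristic two.** -/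
theorem charTwo [Finite G] (hL : Loc G) (hG : IsLieTypeChar 2 G) : IsL2 G := by
  have hsimple := hL.simple
  have par : KFacts.RgdLieCharP.IsLieFilt 2 G → Par G := fun h => par_of_loc hL (KFacts.RgdLieCharP.hasFilt_of_lie h)
  have big : Par G → ∀ {l : ℕ} {M : CoxeterMatrix (Fin l)}, 3 ≤ l → HasRGDT 2 M G → IsL2 G := by
    intro hpar l M hl h
    exfalso
    have := (rgd_two hL hpar (by omega) h).1
    omega
  rcases hG with h | h | h | h | h | h | h | h | h | h | h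
  · have hpar := par (Or.inl h)
    obtain ⟨F, _, _, _, n, hn, hn2, ⟨e⟩⟩ := h
    obtain ⟨rfl, hF⟩ := psl hL hpar hn hn2 e
    have : Fact (Nat.Prime 7) := ⟨by norm_num⟩
    refine ⟨ZMod 7, inferInstance, inferInstance, Or.inr ?_, ?_⟩
    · rw [ZMod.card]
      exact ⟨by norm_num, Or.inr (by norm_num)⟩
    · obtain ⟨e'⟩ := Cfsg.Agent.S0255.result (F := ZMod 7) (K := F) (ZMod.card 7) hF
      exact ⟨e.trans e'.symm⟩
  · have hpar := par (Or.inr (Or.inl h))
    obtain ⟨F, _, _, _, m, hm, hm2, ⟨e⟩⟩ := h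
    exact (false_psp hL hpar hm hm2 e).elim
  · have hpar := par (Or.inr (Or.inr (Or.inl h)))
    obtain ⟨F, _, _, _, n, q, hF, hn, hn2, ⟨e⟩⟩ := h
    exact (false_psu hL hpar hF hn hn2 e).elim
  · obtain ⟨F, _, _, _, m, hm, hodd, ⟨e⟩⟩ := h
    exfalso
    obtain ⟨k, -, hk⟩ := FiniteField.card F 2
    rw [hk] at hodd
    exact absurd hodd (by
      rw [Nat.not_odd_iff_even]
      exact (even_two).pow_of_ne_zero k.ne_zero)
  · have hpar := par (Or.inr (Or.inr (Or.inr (Or.inr (Or.inl h)))))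
    obtain ⟨F, _, _, _, m, hm, ⟨e⟩⟩ := h
    have : Fact (Nat.Prime 2) := ⟨Nat.prime_two⟩
    obtain ⟨n, rfl⟩ : ∃ n, m = n + 3 := ⟨m - 3, by omega⟩
    exact big hpar (by omega) ((typ_PO_plus n).of_equiv e.symm)
  · have hpar := par (Or.inr (Or.inr (Or.inr (Or.inr (Or.inr (Or.inl h))))))
    obtain ⟨F, _, _, _, m, a, b, hm, hab, ⟨e⟩⟩ := h
    have : Fact (Nat.Prime 2) := ⟨Nat.prime_two⟩
    exact big hpar (by omega) ((typ_PO_minus hab (by omega)).of_equiv e.symm)
  · have hpar := par (Or.inr (Or.inr (Or.inr (Or.inr (Or.inr (Or.inr (Or.inl h)))))))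
    obtain ⟨F, _, _, _, h'⟩ := h
    have : Fact (Nat.Prime 2) := ⟨Nat.prime_two⟩
    rcases h' with ⟨hF, ⟨e⟩⟩ | ⟨⟨e⟩⟩ | ⟨⟨e⟩⟩ | ⟨⟨e⟩⟩ | ⟨⟨e⟩⟩
    · exact (false_g2 hL hpar hF e).elim
    · exact big hpar (by omega) ((typ_group (M := CoxeterMatrix.F₄)
        (by simp [Nodes.RGDChev.IsType, Nodes.RGDChev.typeList]) F 2).of_equiv e.symm)
    · exact big hpar (by omega) ((typ_group (M := CoxeterMatrix.E₆)
        (by simp [Nodes.RGDChev.IsType, Nodes.RGDChev.typeList]) F 2).of_equiv e.symm)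
    · exact big hpar (by omega) ((typ_group (M := CoxeterMatrix.E₇)
        (by simp [Nodes.RGDChev.IsType, Nodes.RGDChev.typeList]) F 2).of_equiv e.symm)
    · exact big hpar (by omega) ((typ_group (M := CoxeterMatrix.E₈)
        (by simp [Nodes.RGDChev.IsType, Nodes.RGDChev.typeList]) F 2).of_equiv e.symm)
  · have hpar := par (Or.inr (Or.inr (Or.inr (Or.inr (Or.inr (Or.inr (Or.inr h)))))))
    obtain ⟨K, _, _, _, q, hq, ⟨hK, ⟨e⟩⟩ | ⟨hK, ⟨e⟩⟩⟩ := h
    · have : Fact (Nat.Prime 2) := ⟨Nat.prime_two⟩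
      exact big hpar (by omega) ((typ_twE6 hq hK 2).of_equiv e.symm)
    · exact (false_tD4 hL hpar hq hK e).elim
  · exact (false_sz hL h.2).elim
  · exact (false_2F4 hL h.2).elim
  · exact absurd h.1 (by norm_num)

end Cfsg.Agent.H257.LocTwo
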